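import Mathlib
import Groth.Prelude.Def_CohB1
import Groth.Prelude.Def_Curv2
import Groth.Agent.Lib.ProjPt.Basic
import Groth.Agent.Lib.ProjDim.Const
import Groth.Agent.Lib.Chow.Prod
import Groth.Agent.Lib.CurvePoints.Basic

/-!
A field of transcendence degree one mapped to the generic point of the projective line.
-/

set_option autoImplicit false
set_option backward.isDefEq.respectTransparency false

universe u

open CategoryTheory AlgebraicGeometry

namespace GrothLib.CompleteCurve

/-- A homogeneous polynomial in two variables vanishing at `(1, T)` is zero. -/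
theorem eq_zero_of_aeval_one_X {k : Type u} [Field k] {a : MvPolynomial (Fin 2) k} {n : ℕ}
    (ha : a.IsHomogeneous n) (h : MvPolynomial.aeval ![(1 : Polynomial k), Polynomial.X] a = 0) : a = 0 := by
  classical
  have hrw : MvPolynomial.aeval ![(1 : Polynomial k), Polynomial.X] a =
      ∑ d ∈ a.support, Polynomial.monomial (d 1) (MvPolynomial.coeff d a) := by
    conv_lhs => rw [a.as_sum]
    rw [map_sum]
    refine Finset.sum_congr rfl fun d _ => ?_
    rw [MvPolynomial.aeval_monomial, Finsupp.prod_fintype _ _ fun i => pow_zero _, Fin.prod_univ_two]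
    simp [← Polynomial.C_mul_X_pow_eq_monomial]
  refine MvPolynomial.ext _ _ fun d => ?_
  rw [MvPolynomial.coeff_zero]
  by_contra hd
  have hmem : d ∈ a.support := MvPolynomial.mem_support_iff.2 hd
  have h2 := congrArg (fun q : Polynomial k => q.coeff (d 1)) (hrw.symm.trans h)
  simp only [Polynomial.finsetSum_coeff, Polynomial.coeff_monomial, Polynomial.coeff_zero] at h2
  rw [Finset.sum_eq_single d (fun d' hd' hne => if_neg fun e => hne ?_) (fun h => absurd hmem h),
    if_pos rfl] at h2
  · exact hd h2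
  · have hdeg : ∀ d'' ∈ a.support, d'' 0 + d'' 1 = n := fun d'' h'' => by
      have := ha (MvPolynomial.mem_support_iff.1 h'')
      simpa [Finsupp.weight_apply, Finsupp.sum_fintype, Fin.sum_univ_two] using this
    refine Finsupp.ext fun i => ?_
    have e1 := hdeg d' hd'
    have e2 := hdeg d hmem
    fin_cases i
    · show d' 0 = d 0
      omega
    · exact e

variable (k : Type u) [Field k] (K : Type u) [Field K] [Algebra k K]

/-- A finitely generated extension of transcendence degree one is finite over a purely transcendental one. -/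
theorem exists_transcendental_finite (hfg : (⊤ : IntermediateField k K).FG) (htr : Algebra.trdeg k K = 1) :
    ∃ t : K, Transcendental k t ∧ Module.Finite (IntermediateField.adjoin k {t}) K := by
  obtain ⟨s, hs⟩ := exists_isTranscendenceBasis k K
  have hcard := hs.cardinalMk_eq_trdeg
  rw [htr, Cardinal.eq_one_iff_unique] at hcard
  obtain ⟨_, ⟨⟨t, ht⟩⟩⟩ := hcard
  have hst : s = {t} := Set.eq_singleton_iff_unique_mem.2
    ⟨ht, fun y hy => congrArg Subtype.val (Subsingleton.elim (⟨y, hy⟩ : s) ⟨t, ht⟩)⟩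
  refine ⟨t, hs.1.transcendental ⟨t, ht⟩, ?_⟩
  have halg := hs.isAlgebraic_field
  rw [Subtype.range_coe, hst] at halg
  let E := IntermediateField.adjoin k ({t} : Set K)
  obtain ⟨S, hS, hS'⟩ := IntermediateField.fg_def.1 hfg
  have := hS.to_subtype
  have hf := IntermediateField.finiteDimensional_adjoin (K := E) (S := S) fun x _ =>
    (halg.isAlgebraic x).isIntegral
  have htop : IntermediateField.adjoin E S = ⊤ := by
    rw [eq_top_iff]
    intro x _
    have h1 : IntermediateField.adjoin k S ≤ (IntermediateField.adjoin E S).restrictScalars k :=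
      IntermediateField.adjoin_le_iff.2 (IntermediateField.subset_adjoin E S)
    exact h1 (hS'.ge trivial)
  rw [htop] at hf
  exact Module.Finite.equiv IntermediateField.topEquiv.toLinearEquiv

variable {k K}

/-- `g` factors through the stalk at the generic point. -/
theorem exists_stalk_map {X : Scheme.{u}} {L : Type u} [Field L] (g : Spec (CommRingCat.of L) ⟶ X) :
    ∀ η : X, g (IsLocalRing.closedPoint L) = η → ∃ φ : X.presheaf.stalk η →+* L,
      g = Spec.map (CommRingCat.ofHom φ) ≫ X.fromSpecStalk η ∧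
        Set.range φ = Set.range (Scheme.stalkClosedPointTo g).hom := by
  rintro _ rfl
  exact ⟨(Scheme.stalkClosedPointTo g).hom, (Scheme.Spec_stalkClosedPointTo_fromSpecStalk g).symm, rfl⟩

theorem stalkClosedPointTo_global {X : Scheme.{u}} {L : Type u} [Field L] [Algebra k L]
    (f : Spec (CommRingCat.of L) ⟶ X) (s : X ⟶ Spec (CommRingCat.of k))
    (h : f ≫ s = Spec.map (CommRingCat.ofHom (algebraMap k L))) (c : k) :
    Scheme.stalkClosedPointTo f (X.presheaf.germ ⊤ _ trivial (Coh.toGlobal s c)) = algebraMap k L c := by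
  have e : ((Scheme.ΓSpecIso (CommRingCat.of k)).inv ≫ s.appTop) ≫
      (X.presheaf.germ ⊤ _ trivial ≫ Scheme.stalkClosedPointTo f) = CommRingCat.ofHom (algebraMap k L) := by
    rw [Scheme.germ_stalkClosedPointTo]
    have e1 : f.app ⊤ ≫ ((Spec (CommRingCat.of L)).presheaf.mapIso (eqToIso
        (Scheme.preimage_eq_top_of_closedPoint_mem f (U := ⊤) trivial).symm).op ≪≫
          Scheme.ΓSpecIso _).hom = f.appTop ≫ (Scheme.ΓSpecIso _).hom := by
      simp [Scheme.Hom.appTop]
    rw [e1, Category.assoc, ← Category.assoc s.appTop, ← Scheme.Hom.comp_appTop, h,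
      Scheme.ΓSpecIso_naturality, Iso.inv_hom_id_assoc]
  exact congrArg (fun ψ => ψ.hom c) e

theorem topologicalKrullDim_projLine :
    topologicalKrullDim (CohB1.ProjSpace 1 k) = 1 := by
  let η : CohB1.ProjSpace 1 k := ProjDim.botPt
  have hcl : closure ({η} : Set (CohB1.ProjSpace 1 k)) = Set.univ :=
    Set.eq_univ_of_forall fun y => specializes_iff_mem_closure.1 (ProjDim.specializes_botPt k 1 y)
  have h := ProjDim.dim_closure_botPt k 1
  change topologicalKrullDim (closure ({η} : Set (CohB1.ProjSpace 1 k))) = _ at h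
  rw [hcl] at h
  rw [← (IsHomeomorph.topologicalKrullDim_eq _ (Homeomorph.Set.univ _).isHomeomorph), h]
  rfl

theorem exists_projLine_point (hfg : (⊤ : IntermediateField k K).FG) (htr : Algebra.trdeg k K = 1) :
    ∃ (_ : IsIntegral (CohB1.ProjSpace 1 k)) (φ : (CohB1.ProjSpace 1 k).functionField →+* K)
      (g : Spec (CommRingCat.of K) ⟶ CohB1.ProjSpace 1 k), φ.Finite ∧
        g = Spec.map (CommRingCat.ofHom φ) ≫ (CohB1.ProjSpace 1 k).fromSpecStalk (genericPoint _) ∧
        g ≫ CohB1.ProjSpace.toSpec 1 k = Spec.map (CommRingCat.ofHom (algebraMap k K)) := by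
  obtain ⟨t, ht, hfin⟩ := exists_transcendental_finite k K hfg htr
  have hint : IsIntegral (CohB1.ProjSpace 1 k) := ProjDim.isIntegral_proj k 1
  let 𝒜 := CohB1.polyGrading 1 k
  let x₀ : MvPolynomial (Fin 2) k := MvPolynomial.X 0
  have hx₀ : x₀ ∈ 𝒜 1 := MvPolynomial.isHomogeneous_X _ _
  let f : MvPolynomial (Fin 2) k →+* K := (MvPolynomial.aeval ![(1 : K), t]).toRingHom
  have hfx : f x₀ = 1 := by simp [f, x₀]
  have hu : IsUnit (f x₀) := hfx ▸ isUnit_one
  let ε := GrothLib.ProjPt.evalAway 𝒜 f x₀ hu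
  have hεmk : ∀ n a ha, ε (HomogeneousLocalization.Away.mk 𝒜 hx₀ n a ha) = f a := fun n a ha => by
    have := GrothLib.ProjPt.evalAway_mk_spec 𝒜 f hx₀ hu n a ha
    rwa [hfx, one_pow, mul_one] at this
  have hinj : Function.Injective ε := by
    rw [injective_iff_map_eq_zero]
    intro z hz
    obtain ⟨n, a, ha, rfl⟩ := HomogeneousLocalization.Away.mk_surjective 𝒜 hx₀ z
    rw [hεmk] at hz
    have h1 : MvPolynomial.aeval ![(1 : Polynomial k), Polynomial.X] a = 0 := by
      refine (transcendental_iff_injective.1 ht) ?_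
      rw [map_zero, ← AlgHom.comp_apply, MvPolynomial.comp_aeval]
      refine Eq.trans ?_ hz
      show _ = MvPolynomial.aeval ![(1 : K), t] a
      congr 2
      funext i
      fin_cases i <;> simp
    have ha0 : a = 0 := eq_zero_of_aeval_one_X ha h1
    subst ha0
    exact HomogeneousLocalization.val_injective _ (by simp [HomogeneousLocalization.Away.val_mk, Localization.mk_zero])
  let A₀ := CommRingCat.of (HomogeneousLocalization.Away 𝒜 x₀)
  have : IsDomain A₀ := hinj.isDomain ε
  let ι : Spec A₀ ⟶ CohB1.ProjSpace 1 k := Proj.awayι 𝒜 x₀ hx₀ one_pos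
  have hι : IsOpenImmersion ι := inferInstanceAs (IsOpenImmersion (Proj.awayι 𝒜 x₀ hx₀ one_pos))
  let g : Spec (CommRingCat.of K) ⟶ CohB1.ProjSpace 1 k := Spec.map (CommRingCat.ofHom ε) ≫ ι
  have hpt : g (IsLocalRing.closedPoint K) = genericPoint (CohB1.ProjSpace 1 k) := by
    rw [← genericPoint_eq_of_isOpenImmersion ι, genericPoint_eq_bot_of_affine]
    show ι (Spec.map (CommRingCat.ofHom ε) (IsLocalRing.closedPoint K)) = ι _
    congr 1
    refine PrimeSpectrum.ext ?_
    show Ideal.comap ε (IsLocalRing.maximalIdeal K) = ⊥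
    rw [IsLocalRing.maximalIdeal_eq_bot]
    exact Ideal.comap_bot_of_injective _ hinj
  obtain ⟨φ, hg, hrange⟩ := exists_stalk_map g _ hpt
  have htoSpec : g ≫ CohB1.ProjSpace.toSpec 1 k = Spec.map (CommRingCat.ofHom (algebraMap k K)) := by
    show (Spec.map _ ≫ Proj.awayι 𝒜 x₀ hx₀ one_pos) ≫ Proj.toSpecZero 𝒜 ≫ Spec.map _ = _
    rw [Category.assoc, Proj.awayι_toSpecZero_assoc, ← Spec.map_comp, ← Spec.map_comp]
    congr 1
    ext c
    show ε (HomogeneousLocalization.fromZeroRingHom 𝒜 _ (algebraMap k (𝒜 0) c)) = algebraMap k K c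
    have e : HomogeneousLocalization.fromZeroRingHom 𝒜 (Submonoid.powers x₀) (algebraMap k (𝒜 0) c) =
        HomogeneousLocalization.Away.mk 𝒜 hx₀ 0 (algebraMap k (𝒜 0) c).1
          (by rw [zero_smul]; exact (algebraMap k (𝒜 0) c).2) := by
      refine HomogeneousLocalization.val_injective _ ?_
      rw [HomogeneousLocalization.Away.val_mk]
      simp only [HomogeneousLocalization.fromZeroRingHom]
      exact HomogeneousLocalization.val_mk _
    rw [e, hεmk]
    show MvPolynomial.aeval ![(1 : K), t] (MvPolynomial.C c) = _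
    simp
  have hε : Set.range ε ⊆ Set.range φ := by
    rw [hrange]
    rintro _ ⟨a, rfl⟩
    let s₀ : (Spec A₀).presheaf.stalk (Spec.map (CommRingCat.ofHom ε) (IsLocalRing.closedPoint K)) :=
      (Spec A₀).presheaf.germ ⊤ _ trivial ((Scheme.ΓSpecIso A₀).inv a)
    obtain ⟨s, hs⟩ := (ConcreteCategory.bijective_of_isIso (ι.stalkMap _)).2 s₀
    refine ⟨s, ?_⟩
    show Scheme.stalkClosedPointTo (Spec.map (CommRingCat.ofHom ε) ≫ ι) s = ε a
    rw [Scheme.stalkClosedPointTo_comp]
    show Scheme.stalkClosedPointTo _ ((ι.stalkMap _) s) = ε a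
    rw [hs]
    have := congrArg (fun ψ => ψ.hom ((Scheme.ΓSpecIso A₀).inv a))
      (Scheme.germ_stalkClosedPointTo_Spec (CommRingCat.ofHom ε))
    refine this.trans ?_
    show ε ((Scheme.ΓSpecIso A₀).hom ((Scheme.ΓSpecIso A₀).inv a)) = ε a
    rw [← CommRingCat.comp_apply, Iso.inv_hom_id]
    rfl
  refine ⟨hint, φ, g, ?_, hg, htoSpec⟩
  let F : Subfield K := φ.fieldRange
  have hF : ((IntermediateField.adjoin k ({t} : Set K)).toSubfield : Set K) ⊆ Set.range φ := by
    have hk : ∀ c : k, algebraMap k K c ∈ φ.fieldRange := fun c =>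
      hε ⟨HomogeneousLocalization.Away.mk 𝒜 hx₀ 0 (MvPolynomial.C c)
        (by rw [zero_smul]; exact MvPolynomial.isHomogeneous_C _ c), by rw [hεmk]; simp [f]⟩
    have htm : t ∈ φ.fieldRange :=
      hε ⟨HomogeneousLocalization.Away.mk 𝒜 hx₀ 1 (MvPolynomial.X 1)
        (by rw [one_smul]; exact MvPolynomial.isHomogeneous_X _ _), by rw [hεmk]; simp [f]⟩
    intro y hy
    have hle : (IntermediateField.adjoin k ({t} : Set K)).toSubfield ≤ φ.fieldRange :=
      Subfield.closure_le.2 (Set.union_subset (by rintro _ ⟨c, rfl⟩; exact hk c) (Set.singleton_subset_iff.2 htm))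
    exact hle hy
  letI := φ.toAlgebra
  show Module.Finite (CohB1.ProjSpace 1 k).functionField K
  obtain ⟨b, hb⟩ := hfin.fg_top
  refine ⟨⟨b, eq_top_iff.2 fun z hz0 => ?_⟩⟩
  clear hz0
  have hz : z ∈ Submodule.span (IntermediateField.adjoin k ({t} : Set K)) (b : Set K) := hb.ge trivial
  induction hz using Submodule.span_induction with
  | mem y hy => exact Submodule.subset_span hy
  | zero => exact zero_mem _
  | add _ _ _ _ h h' => exact add_mem h h'
  | smul c y _ h =>
    obtain ⟨d, hd⟩ := hF c.2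
    have e : c • y = d • y := by rw [Algebra.smul_def, Algebra.smul_def]; exact congrArg (· * y) hd.symm
    rw [e]
    exact Submodule.smul_mem _ d h

end GrothLib.CompleteCurve
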