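import Mathlib
import Groth.Prelude.Def_Pi1
import Groth.Agent.Lib.CompleteCurve.P1
import Groth.Agent.Lib.Japanese.Curve

/-!
The complete normal curve with a given function field.
-/

set_option autoImplicit false
set_option backward.isDefEq.respectTransparency false

universe u

open CategoryTheory AlgebraicGeometry
attribute [local instance] Curv2.stalkAlgebra

namespace GrothLib.CompleteCurve

variable {k : Type u} [Field k] {K : Type u} [Field K] [Algebra k K]

theorem exists_curve (hfg : (⊤ : IntermediateField k K).FG) (htr : Algebra.trdeg k K = 1) :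
    ∃ (X : Scheme.{u}) (_ : X.Over (Spec (CommRingCat.of k))) (_ : IsIntegral X),
      IsProper (X ↘ (Spec (CommRingCat.of k))) ∧ Pi1.IsNormalScheme X ∧
      (∀ x : X, IsClosed ({x} : Set X) → ringKrullDim (X.presheaf.stalk x) = 1) ∧
      ∃ e : X.presheaf.stalk (genericPoint X) ≃+* K,
        ∀ c : k, e (algebraMap k (X.presheaf.stalk (genericPoint X)) c) = algebraMap k K c := by
  obtain ⟨_, φ, g, hφ, hg, hgs⟩ := exists_projLine_point hfg htr
  let Y := CohB1.ProjSpace 1 k
  let q := CohB1.ProjSpace.toSpec 1 k
  have : IsProper q := Chow.isProper_toSpec 1 k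
  have : LocallyOfFiniteType q := inferInstance
  have : IsSeparated (g ≫ q) := by rw [hgs]; infer_instance
  have : IsSeparated g := IsSeparated.of_comp g q
  have : QuasiCompact g := inferInstance
  have : QuasiSeparated g := inferInstance
  let X := g.normalization
  let h : X ⟶ Y := g.fromNormalization
  have hfin : IsFinite h := GrothLib.Japanese.isFinite_fromNormalization k q φ hφ g hg
  letI instOverX : X.Over (Spec (CommRingCat.of k)) := ⟨h ≫ q⟩
  let tN : Spec (CommRingCat.of K) ⟶ X := g.toNormalization
  have hq : Subsingleton (Spec (CommRingCat.of K)) := inferInstanceAs (Subsingleton (PrimeSpectrum K))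
  have htNpt : tN (IsLocalRing.closedPoint K) = genericPoint X := by
    have hd : DenseRange tN := (inferInstance : IsDominant g.toNormalization).denseRange
    have hr : Set.range tN = {tN (IsLocalRing.closedPoint K)} := by
      ext z
      constructor
      · rintro ⟨w, rfl⟩; rw [Subsingleton.elim w (IsLocalRing.closedPoint K)]; rfl
      · rintro rfl; exact ⟨_, rfl⟩
    have hgen : IsGenericPoint (tN (IsLocalRing.closedPoint K)) Set.univ := by
      show closure _ = _
      rw [← hr]
      exact hd.closure_range
    exact hgen.eq (genericPoint_spec X)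
  obtain ⟨ψ, htN, hrange⟩ := exists_stalk_map tN _ htNpt
  have hsurj : Function.Surjective ψ := by
    obtain ⟨U, hU, hηU, -⟩ := exists_isAffineOpen_mem_and_subset (U := (⊤ : Y.Opens)) (x := genericPoint Y) trivial
    letI := (g.app U).hom.toAlgebra
    obtain ⟨-, -, hdom, e₀, hfrac, -⟩ :=
      GrothLib.Japanese.finite_and_isFractionRing_of_nonempty k q φ hφ g hg U hU ⟨⟨_, hηU⟩⟩
    let W := h ⁻¹ᵁ U
    have hηW : tN (IsLocalRing.closedPoint K) ∈ W := by
      show (g.toNormalization ≫ g.fromNormalization) (IsLocalRing.closedPoint K) ∈ U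
      rw [Scheme.Hom.toNormalization_fromNormalization, hg]
      have hm : Y.fromSpecStalk (genericPoint Y) (Spec.map (CommRingCat.ofHom φ) (IsLocalRing.closedPoint K)) ∈
          Set.range (Y.fromSpecStalk (genericPoint Y)) := ⟨_, rfl⟩
      rw [Scheme.range_fromSpecStalk] at hm
      exact hm.mem_open U.isOpen hηU
    have hpre : g ⁻¹ᵁ U = tN ⁻¹ᵁ W := by
      show g ⁻¹ᵁ U = (g.toNormalization ≫ g.fromNormalization) ⁻¹ᵁ U
      rw [Scheme.Hom.toNormalization_fromNormalization]
    let ρ : Γ(Spec (CommRingCat.of K), g ⁻¹ᵁ U) ⟶ CommRingCat.of K :=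
      (Spec (CommRingCat.of K)).presheaf.map (eqToHom hpre.symm).op ≫
        ((Spec (CommRingCat.of K)).presheaf.mapIso (eqToIso
          (Scheme.preimage_eq_top_of_closedPoint_mem tN hηW).symm).op ≪≫ Scheme.ΓSpecIso _).hom
    have hρ : Function.Bijective ρ := by
      have : IsIso ρ := inferInstance
      exact ConcreteCategory.bijective_of_isIso ρ
    have key : ∀ b : integralClosure Γ(Y, U) Γ(Spec (CommRingCat.of K), g ⁻¹ᵁ U),
        ρ b.1 ∈ Set.range ψ := by
      intro b
      rw [hrange]
      let w : Γ(X, W) := (g.normalizationObjIso hU).inv b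
      refine ⟨X.presheaf.germ W _ hηW w, ?_⟩
      have h1 := congrArg (fun F => F.hom w) (Scheme.germ_stalkClosedPointTo tN W hηW)
      refine h1.trans ?_
      have h2 : tN.app W w =
          (Spec (CommRingCat.of K)).presheaf.map (eqToHom hpre.symm).op b.1 := by
        have h3 := congrArg (fun F => F.hom w) (g.toNormalization_app_preimage ⟨U, hU⟩)
        refine h3.trans ?_
        show (Spec (CommRingCat.of K)).presheaf.map _
          (((g.normalizationObjIso hU).hom w).1) = _
        rw [show (g.normalizationObjIso hU).hom w = b from by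
          show (g.normalizationObjIso hU).hom ((g.normalizationObjIso hU).inv b) = b
          rw [← CommRingCat.comp_apply, Iso.inv_hom_id]; rfl]
      rw [CommRingCat.hom_comp, RingHom.comp_apply]
      rw [h2]
      rfl
    intro z
    obtain ⟨z', rfl⟩ := hρ.2 z
    obtain ⟨⟨a, s⟩, hz⟩ := IsLocalization.surj
      (nonZeroDivisors (integralClosure Γ(Y, U) Γ(Spec (CommRingCat.of K), g ⁻¹ᵁ U))) z'
    obtain ⟨A, hA⟩ := key a
    obtain ⟨S, hS⟩ := key s.1
    have hs0 : ρ s.1.1 ≠ 0 := fun e => by
      have h0 : (s.1.1 : Γ(Spec (CommRingCat.of K), g ⁻¹ᵁ U)) = 0 := hρ.1 (e.trans (map_zero ρ.hom).symm)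
      have : (s.1 : integralClosure Γ(Y, U) Γ(Spec (CommRingCat.of K), g ⁻¹ᵁ U)) = 0 := Subtype.ext h0
      exact nonZeroDivisors.ne_zero s.2 this
    letI : Field (X.presheaf.stalk (genericPoint X)) := inferInstanceAs (Field X.functionField)
    refine ⟨A / S, ?_⟩
    rw [map_div₀, hA, hS, div_eq_iff hs0, ← map_mul]
    exact congrArg ρ hz.symm
  have hinj : Function.Injective ψ := by
    letI : Field (X.presheaf.stalk (genericPoint X)) := inferInstanceAs (Field X.functionField)
    exact RingHom.injective ψ
  have : IsProper (X ↘ Spec (CommRingCat.of k)) := by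
    show IsProper (h ≫ q)
    infer_instance
  have hdY : topologicalKrullDim Y = 1 := topologicalKrullDim_projLine
  have hhη : h (genericPoint X) = genericPoint Y := by
    rw [← htNpt, ← Scheme.Hom.comp_apply]
    show (g.toNormalization ≫ g.fromNormalization) (IsLocalRing.closedPoint K) = _
    rw [Scheme.Hom.toNormalization_fromNormalization, hg, Scheme.Hom.comp_apply]
    refine Eq.trans (congrArg (Y.fromSpecStalk (genericPoint Y)) (?_ :
      Spec.map (CommRingCat.ofHom φ) (IsLocalRing.closedPoint K) =
        IsLocalRing.closedPoint (Y.presheaf.stalk (genericPoint Y)))) Scheme.fromSpecStalk_closedPoint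
    letI : Field (Y.presheaf.stalk (genericPoint Y)) := inferInstanceAs (Field Y.functionField)
    refine PrimeSpectrum.ext ?_
    show Ideal.comap φ (IsLocalRing.maximalIdeal K) = IsLocalRing.maximalIdeal _
    rw [IsLocalRing.maximalIdeal_eq_bot, IsLocalRing.maximalIdeal_eq_bot]
    exact Ideal.comap_bot_of_injective _ (RingHom.injective φ)
  refine ⟨X, instOverX, inferInstance, inferInstance,
    fun z => GrothLib.Japanese.isIntegrallyClosed_stalk_normalization k q φ hφ g hg z, fun x hx => ?_,
    RingEquiv.ofBijective ψ ⟨hinj, hsurj⟩, fun c => ?_⟩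
  · rw [ringKrullDim_stalk_eq_coheight]
    have hne : x ≠ genericPoint X := by
      rintro rfl
      have := h.isClosedMap _ hx
      rw [Set.image_singleton, hhη] at this
      exact CurvePoints.genericPoint_not_isClosed hdY this
    have h1 : Order.coheight x ≤ 1 := by
      refine (GrothLib.Japanese.Scheme.Hom.coheight_le_of_locallyQuasiFinite h x).trans ?_
      have h2 := Order.coheight_le_krullDim (h x)
      have h3 : Order.krullDim Y = topologicalKrullDim Y :=
        (Order.krullDim_eq_of_orderIso (irreducibleSetEquivPoints (α := ↥Y))).symm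
      rw [h3, hdY] at h2
      exact_mod_cast h2
    have h0 : Order.coheight x ≠ 0 := fun e =>
      absurd ((Order.coheight_eq_zero.1 e) (CurvePoints.lt_genericPoint hne).le)
        (CurvePoints.lt_genericPoint hne).not_ge
    exact_mod_cast le_antisymm h1 (ENat.one_le_iff_ne_zero.2 h0)
  · show ψ (X.presheaf.germ ⊤ (genericPoint X) trivial (Coh.toGlobal (h ≫ q) c)) = _
    have hcomp : tN ≫ h ≫ q = Spec.map (CommRingCat.ofHom (algebraMap k K)) := by
      rw [← Category.assoc, ← hgs]
      show (g.toNormalization ≫ g.fromNormalization) ≫ q = _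
      rw [Scheme.Hom.toNormalization_fromNormalization]
    have key := stalkClosedPointTo_global tN (h ≫ q) hcomp c
    have gen : ∀ (η : X) (ψ' : X.presheaf.stalk η →+* K) (_ : tN (IsLocalRing.closedPoint K) = η),
        tN = Spec.map (CommRingCat.ofHom ψ') ≫ X.fromSpecStalk η →
        ψ' (X.presheaf.germ ⊤ η trivial (Coh.toGlobal (h ≫ q) c)) = algebraMap k K c := by
      rintro _ ψ' rfl heq
      have e : CommRingCat.ofHom ψ' = Scheme.stalkClosedPointTo tN := by
        apply Spec.map_injective
        rw [← cancel_mono (X.fromSpecStalk _), ← heq, Scheme.Spec_stalkClosedPointTo_fromSpecStalk]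
      rw [← show (Scheme.stalkClosedPointTo tN).hom = ψ' from (congrArg (·.hom) e).symm]
      exact key
    exact gen _ ψ htNpt htN

end GrothLib.CompleteCurve
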